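import Cfsg.Agent.Lib.RegularOrbit.Covering
import Cfsg.Agent.Lib.Char.Monomial
import Cfsg.Agent.Lib.Char.MaxDegree
import Cfsg.Agent.Lib.Char.Linear
import Cfsg.Agent.Lib.PCore.Basic

/-!
# Vanishing at elements with a power in `O_{p'p}(G)`

* `exists_regular_vector`: an abelian group of automorphisms of coprime order of a finite abelian
  group has a regular orbit;
* `exists_vanishing_of_forall_not_fixed`: an irreducible character over a linear character `λ` of a
  normal subgroup vanishes at elements fixing no conjugate of `λ`;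
* `exists_vanishing_of_mem`: in a solvable group with `O_p = 1`, every element having a nontrivial
  `p`-element `x` of a normal `p'`-by-`p` subgroup as a power is a zero of an irreducible character
  (`p` odd, or `x` in a part abelian modulo the `p'`-subgroup).
-/

set_option autoImplicit false
set_option linter.style.haveILetI false
set_option linter.unusedSectionVars false

namespace Cfsg.Agent.VanishingP

universe u

/-- An abelian automorphism group of coprime order of an abelian group has a regular orbit. -/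
theorem exists_regular_vector {V : Type*} [CommGroup V] [Finite V] (A : Subgroup (MulAut V))
    (hA : ∀ a ∈ A, ∀ b ∈ A, a * b = b * a) (hcop : (Nat.card V).Coprime (Nat.card A)) :
    ∃ v : V, ∀ a ∈ A, a v = v → a = 1 := by
  classical
  haveI : Finite (MulAut V) := inferInstance
  let St : V → Subgroup (MulAut V) := fun v => A ⊓ MulAction.stabilizer (MulAut V) v
  obtain ⟨v, hv⟩ := Finite.exists_min (fun v : V => Nat.card (St v))
  refine ⟨v, fun a haA hav => ?_⟩
  by_contra ha1
  set S := St v with hS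
  have haS : a ∈ S := ⟨haA, hav⟩
  obtain ⟨u, hu⟩ : ∃ u : V, a u ≠ u := by
    by_contra! h
    exact ha1 (MulEquiv.ext h)
  haveI : Fintype ↥S := Fintype.ofFinite _
  set n := Nat.card S with hn
  have hncop : (Nat.card V).Coprime n :=
    hcop.coprime_dvd_right (Subgroup.card_dvd_of_le inf_le_left)
  -- powers prime to `|V|` are injective
  have hinj : ∀ x y : V, x ^ n = y ^ n → x = y := fun x y h => (powCoprime hncop).injective h
  let N : V → V := fun w => ∏ s : S, (s : MulAut V) w
  have hfix : ∀ w, a (N w) = N w := fun w => by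
    simp only [N, map_prod]
    exact Fintype.prod_equiv (Equiv.mulLeft ⟨a, haS⟩) _ _ fun s => rfl
  set u' := u ^ n / N u with hu'
  have hNv : N v = v ^ n := by
    simp only [N]
    rw [Finset.prod_eq_pow_card (b := v) (fun (s : S) _ =>
      show (s : MulAut V) v = v from MulAction.mem_stabilizer_iff.1 s.2.2),
      Finset.card_univ, ← Nat.card_eq_fintype_card]
  have hNN : ∀ w, N (N w) = N w ^ n := by
    intro w
    have h : ∀ t : S, (t : MulAut V) (N w) = N w := fun t => by
      simp only [N, map_prod]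
      exact Fintype.prod_equiv (Equiv.mulLeft t) _ _ fun s => rfl
    conv_lhs => simp only [N]
    rw [Finset.prod_eq_pow_card (b := N w) (fun s _ => h s), Finset.card_univ,
      ← Nat.card_eq_fintype_card]
  have hNmul : ∀ x y, N (x * y) = N x * N y := fun x y => by
    simp only [N, map_mul, Finset.prod_mul_distrib]
  have hNu' : N u' = 1 := by
    have hNpow : N (u ^ n) = N u ^ n := by
      simp only [N, map_pow, Finset.prod_pow]
    have h := hNmul u' (N u)
    rw [hu', div_mul_cancel, hNpow, hNN] at h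
    rw [hu']
    exact right_eq_mul.1 h
  have hcomm : ∀ b ∈ A, ∀ w, b (N w) = N (b w) := fun b hb w => by
    simp only [N, map_prod]
    refine Finset.prod_congr rfl fun s _ => ?_
    rw [← MulAut.mul_apply, hA b hb _ s.2.1, MulAut.mul_apply]
  have hle : St (v * u') ≤ S := by
    rintro b ⟨hb, hbw : b (v * u') = v * u'⟩
    have h := hcomm b hb (v * u')
    rw [hbw, hNmul, hNu', mul_one, hNv, map_pow] at h
    exact ⟨hb, hinj _ _ h⟩
  have hnot : a ∉ St (v * u') := by
    rintro ⟨-, haw : a (v * u') = v * u'⟩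
    rw [map_mul, show a v = v from hav, mul_right_inj] at haw
    rw [hu', map_div, map_pow, hfix, div_left_inj] at haw
    exact hu (hinj _ _ haw)
  have hlt : Nat.card (St (v * u')) < Nat.card S :=
    lt_of_le_of_ne (Subgroup.card_le_of_le hle) fun he =>
      hnot ((Subgroup.eq_of_le_of_card_ge hle he.ge).symm ▸ haS)
  exact absurd (hv (v * u')) (not_le.2 hlt)

/-- A fixed point of an automorphism is fixed by its powers. -/
theorem zpow_apply_eq_self {V : Type*} [CommGroup V] {a : MulAut V} {v : V} (h : a v = v) (n : ℤ) :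
    (a ^ n) v = v :=
  MulAction.mem_stabilizer_iff.1 (zpow_mem (MulAction.mem_stabilizer_iff.2
    (show a • v = v from h)) n)

variable {G : Type u} [Group G]

/-- The linear characters of a subgroup, as an abelian group. -/
def Dual (L : Subgroup G) : Type u := ↥L →* ℂˣ

noncomputable instance (L : Subgroup G) : CommGroup (Dual L) :=
  inferInstanceAs (CommGroup (↥L →* ℂˣ))

/-- The underlying homomorphism. -/
def Dual.hom {L : Subgroup G} (lam : Dual L) : ↥L →* ℂˣ := lam

theorem Dual.ext {L : Subgroup G} {a b : Dual L} (h : ∀ n, a.hom n = b.hom n) : a = b :=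
  MonoidHom.ext h

theorem Dual.mul_hom {L : Subgroup G} (a b : Dual L) (n : ↥L) :
    (a * b).hom n = a.hom n * b.hom n := rfl

/-- Conjugation of the linear characters of a normal subgroup. -/
noncomputable def dualConj (L : Subgroup G) [L.Normal] : G →* MulAut (Dual L) where
  toFun g :=
    { toFun := fun lam => lam.hom.comp (MulAut.conjNormal g⁻¹ : MulAut ↥L).toMonoidHom
      invFun := fun lam => lam.hom.comp (MulAut.conjNormal g : MulAut ↥L).toMonoidHom
      left_inv := fun lam => Dual.ext fun n => by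
        show lam.hom (MulAut.conjNormal g⁻¹ (MulAut.conjNormal g n)) = lam.hom n
        rw [← MulAut.mul_apply, ← map_mul, inv_mul_cancel, map_one, MulAut.one_apply]
      right_inv := fun lam => Dual.ext fun n => by
        show lam.hom (MulAut.conjNormal g (MulAut.conjNormal g⁻¹ n)) = lam.hom n
        rw [← MulAut.mul_apply, ← map_mul, mul_inv_cancel, map_one, MulAut.one_apply]
      map_mul' := fun _ _ => Dual.ext fun _ => rfl }
  map_one' := MulEquiv.ext fun lam => Dual.ext fun n => by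
    show lam.hom (MulAut.conjNormal (1 : G)⁻¹ n) = lam.hom n
    rw [inv_one, map_one, MulAut.one_apply]
  map_mul' a b := MulEquiv.ext fun lam => Dual.ext fun n => by
    show lam.hom (MulAut.conjNormal (a * b)⁻¹ n) =
      lam.hom (MulAut.conjNormal b⁻¹ (MulAut.conjNormal a⁻¹ n))
    rw [mul_inv_rev, map_mul, MulAut.mul_apply]

theorem dualConj_apply (L : Subgroup G) [L.Normal] (g : G) (lam : Dual L) (n : ↥L) :
    (dualConj L g lam).hom n = lam.hom (MulAut.conjNormal g⁻¹ n) := rfl

/-- Homomorphisms to `ℂ` and to `ℂˣ`. -/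
noncomputable def dualEquiv (L : Subgroup G) : (↥L →* ℂ) ≃ Dual L where
  toFun f := f.toHomUnits
  invFun f := (Units.coeHom ℂ).comp f.hom
  left_inv f := by ext g; rfl
  right_inv f := Dual.ext fun g => Units.ext rfl

theorem finite_dual (L : Subgroup G) [Finite ↥L] : Finite (Dual L) := by
  refine Nat.finite_of_card_ne_zero ?_
  rw [← Nat.card_congr (dualEquiv L), Char.card_monoidHom_complex]
  exact Subgroup.index_ne_zero_of_finite

theorem coprime_card_dual (L : Subgroup G) [Finite ↥L] {p : ℕ}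
    (h : (Nat.card L).Coprime p) : (Nat.card (Dual L)).Coprime p := by
  rw [← Nat.card_congr (dualEquiv L), Char.card_monoidHom_complex]
  exact h.coprime_dvd_left (Subgroup.index_dvd_card _)

/-- An irreducible character over `lam` vanishes at `g` if `g` fixes no conjugate of `lam`. -/
theorem exists_vanishing_of_forall_not_fixed [Finite G] (L : Subgroup G) [L.Normal]
    (lam : Dual L) (g : G) (h : ∀ t : G, dualConj L (t⁻¹ * g * t) lam ≠ lam) :
    ∃ χ : Cfsg.IrrCharacter G, χ.1 g = 0 := by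
  haveI := Fintype.ofFinite G
  haveI := Fintype.ofFinite ↥L
  set θ := Char.linIrr ((Units.coeHom ℂ).comp lam.hom) with hθ
  obtain ⟨χ, hχ⟩ := Char.MaxDegree.exists_over L θ
  have hχ' : classInner (Char.resFun L χ.1) θ.1 ≠ 0 := Char.MaxDegree.classInner_ne_zero_symm hχ
  obtain ⟨hle, ψ, e, he, hres, hind⟩ := Char.exists_indFun_inertia L χ θ hχ'
  refine ⟨χ, ?_⟩
  rw [← hind]
  refine Char.indFun_eq_zero_of_forall_notMem _ _ fun t ht => h t ?_
  have h1 := inv_mem ht
  rw [Char.mem_inertiaGroup] at h1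
  refine Dual.ext fun n => Units.ext ?_
  exact congrFun h1 n

variable {p : ℕ} [hp : Fact p.Prime]

/-- A `p`-element acting trivially on the linear characters of `L = N ∩ K`, `N` its normal
closure, is trivial. -/
theorem eq_one_of_dual_trivial [Finite G] [Group.IsSolvable G] (hO : Cfsg.pCore p G = ⊥)
    (K : Subgroup G) [K.Normal] (hK : (Nat.card K).Coprime p) {x : G}
    (hx : ∃ k, orderOf x = p ^ k)
    (hN : ∀ y ∈ Subgroup.normalClosure {x}, ∃ k : ℕ, y ^ p ^ k ∈ K)
    (hφ : dualConj (Subgroup.normalClosure {x} ⊓ K) x = 1) : x = 1 := by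
  classical
  set N := Subgroup.normalClosure ({x} : Set G) with hNdef
  set L := N ⊓ K with hLdef
  haveI : L.Normal := Subgroup.normal_inf_normal _ _
  -- all of `N` fixes every linear character
  have hker : N ≤ (dualConj L).ker :=
    Subgroup.normalClosure_le_normal (Set.singleton_subset_iff.2 hφ)
  -- `[L, N] ≤ L'`
  set D := (commutator ↥L).map L.subtype with hD
  haveI hDn : D.Normal := by rw [hD]; infer_instance
  have hcen : ∀ n ∈ N, ∀ l ∈ L, n * l * n⁻¹ * l⁻¹ ∈ D := by
    intro n hn l hl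
    have hl' : n * l * n⁻¹ * l⁻¹ ∈ L :=
      L.mul_mem (Subgroup.Normal.conj_mem inferInstance l hl n) (L.inv_mem hl)
    refine ⟨⟨_, hl'⟩, ?_, rfl⟩
    by_contra hne
    have hne' : Abelianization.of (⟨_, hl'⟩ : ↥L) ≠ 1 := fun h =>
      hne ((QuotientGroup.eq_one_iff _).1 h)
    haveI : Finite (Abelianization ↥L) :=
      Finite.of_surjective (Abelianization.of (G := ↥L)) QuotientGroup.mk_surjective
    haveI : NeZero (Monoid.exponent (Abelianization ↥L) : ℂ) :=
      ⟨Nat.cast_ne_zero.2 Monoid.exponent_ne_zero_of_finite⟩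
    obtain ⟨φ, hφ'⟩ := CommGroup.exists_apply_ne_one_of_hasEnoughRootsOfUnity
      (Abelianization ↥L) ℂ hne'
    apply hφ'
    set lam : Dual L := φ.comp Abelianization.of with hlam
    have h1 : dualConj L n⁻¹ lam = lam := by
      rw [MonoidHom.mem_ker.1 (hker (N.inv_mem hn))]; rfl
    have h2 := congrArg (fun μ : Dual L => μ.hom ⟨l, hl⟩) h1
    rw [dualConj_apply, inv_inv] at h2
    change lam.hom ⟨_, hl'⟩ = 1
    rw [show (⟨_, hl'⟩ : ↥L) = MulAut.conjNormal n ⟨l, hl⟩ * (⟨l, hl⟩)⁻¹ from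
      Subtype.ext (by simp), map_mul, h2, map_inv, mul_inv_cancel]
  set π := QuotientGroup.mk' D with hπ
  set Nb := N.map π with hNb
  set Z := (L.map π).subgroupOf Nb with hZ
  have hπsurj : Function.Surjective π := QuotientGroup.mk'_surjective D
  have hLN : L.map π ≤ Nb := Subgroup.map_mono inf_le_left
  have hZc : Z ≤ Subgroup.center ↥Nb := by
    intro z hz
    obtain ⟨l, hl, hlz⟩ := Subgroup.mem_subgroupOf.1 hz
    refine Subgroup.mem_center_iff.2 fun c => Subtype.ext ?_
    obtain ⟨n, hn, hnc⟩ := c.2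
    push_cast
    rw [← hlz, ← hnc, ← map_mul, ← map_mul, hπ, QuotientGroup.mk'_apply, QuotientGroup.mk'_apply,
      eq_comm, QuotientGroup.eq]
    have := hcen n⁻¹ (N.inv_mem hn) l⁻¹ (L.inv_mem hl)
    rw [inv_inv, inv_inv] at this
    convert this using 1
    group
  have hLcop : (Nat.card (L.map π)).Coprime p :=
    (hK.coprime_dvd_left (Subgroup.card_dvd_of_le inf_le_right)).coprime_dvd_left
      (Subgroup.card_map_dvd L π)
  have hZcop : (Nat.card Z).Coprime p := by
    rwa [hZ, Nat.card_congr (Subgroup.subgroupOfEquivOfLe hLN).toEquiv]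
  haveI hZn : Z.Normal := ⟨fun z hz c => by
    rw [Subgroup.mem_center_iff.1 (hZc hz) c, mul_inv_cancel_right]; exact hz⟩
  have hidx : ∃ j, Z.index = p ^ j := by
    refine IsPGroup.iff_card.1 (fun q => ?_ : IsPGroup p (↥Nb ⧸ Z))
    obtain ⟨⟨_, n, hn, rfl⟩, rfl⟩ := QuotientGroup.mk_surjective q
    obtain ⟨k, hk⟩ := hN n hn
    refine ⟨k, (QuotientGroup.eq_one_iff _).2 ?_⟩
    rw [hZ, Subgroup.mem_subgroupOf]
    exact ⟨n ^ p ^ k, ⟨N.pow_mem hn _, hk⟩, by simp⟩
  obtain ⟨j, hj⟩ := hidx
  obtain ⟨M, hM⟩ := Subgroup.exists_right_complement'_of_coprime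
    (show (Nat.card Z).Coprime Z.index by rw [hj]; exact hZcop.pow_right j)
  have hMp : IsPGroup p M := IsPGroup.of_card (by rw [← hM.symm.index_eq_card]; exact hj)
  haveI hMn : M.Normal := by
    rw [← Subgroup.normalizer_eq_top_iff, eq_top_iff, ← hM.sup_eq_top]
    exact sup_le (hZc.trans (Subgroup.center_le_normalizer _)) Subgroup.le_normalizer
  obtain ⟨k, hk⟩ := hx
  have hconj : ∀ t : G, π (t * x * t⁻¹) ∈ M.map Nb.subtype := by
    intro t
    have htN : t * x * t⁻¹ ∈ N := Subgroup.normalClosure_normal.conj_mem x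
      (Subgroup.subset_normalClosure (Set.mem_singleton x)) t
    set m : ↥Nb := ⟨π (t * x * t⁻¹), _, htN, rfl⟩ with hm
    refine ⟨m, show m ∈ M from ?_, rfl⟩
    rw [← QuotientGroup.eq_one_iff, ← orderOf_eq_one_iff]
    refine Nat.eq_one_of_dvd_coprimes (a := p ^ k) (b := M.index) ?_ ?_
      (hM.index_eq_card ▸ hM.index_eq_card.symm ▸ orderOf_dvd_natCard _)
    · rw [hM.index_eq_card]; exact hZcop.symm.pow_left k
    · refine orderOf_dvd_of_pow_eq_one ?_
      rw [← QuotientGroup.mk_pow, QuotientGroup.eq_one_iff]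
      have : m ^ p ^ k = 1 := Subtype.ext (by
        rw [hm]; push_cast
        rw [← map_pow, conj_pow, ← hk, pow_orderOf_eq_one, mul_one, mul_inv_cancel, map_one])
      rw [this]; exact M.one_mem
  have hNM : N ≤ (M.map Nb.subtype).comap π := by
    rw [hNdef, Subgroup.normalClosure, Subgroup.closure_le]
    intro y hy
    obtain ⟨a, ha, hay⟩ := Group.mem_conjugatesOfSet_iff.1 hy
    rw [Set.mem_singleton_iff.1 ha] at hay
    obtain ⟨t, rfl⟩ := isConj_iff.1 hay
    exact hconj t
  have hLbot : L.map π = ⊥ := by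
    refine (Subgroup.eq_bot_iff_forall _).2 ?_
    rintro _ ⟨l, hl, rfl⟩
    obtain ⟨m, hm, hml⟩ := hNM hl.1
    have hmZ : m ∈ Z := Subgroup.mem_subgroupOf.2 ⟨l, hl, hml.symm⟩
    have := Subgroup.disjoint_def.1 hM.disjoint hmZ hm
    rw [← hml, this]; rfl
  -- `L = L'`, so `L = 1`
  have hLL : commutator ↥L = ⊤ := by
    refine eq_top_iff.2 fun l _ => ?_
    have h1 : π (l : G) = 1 := Subgroup.mem_bot.1 (hLbot ▸ Subgroup.mem_map_of_mem π l.2)
    obtain ⟨l', hl', he⟩ := (QuotientGroup.eq_one_iff _).1 h1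
    rwa [← Subtype.ext he]
  have hL : L = ⊥ := by
    by_contra hne
    haveI : Nontrivial ↥L := (Subgroup.nontrivial_iff_ne_bot L).2 hne
    haveI : Group.IsSolvable ↥L := inferInstance
    exact (Group.IsSolvable.commutator_lt_top_of_nontrivial ↥L).ne hLL
  have hNp : IsPGroup p N := fun y => by
    obtain ⟨k, hk⟩ := hN y y.2
    exact ⟨k, Subtype.ext (Subgroup.mem_bot.1 (hL ▸ (⟨N.pow_mem y.2 _, hk⟩ : _ ∈ L) : _ ∈ (⊥ : Subgroup G)))⟩
  have := PCore.le_pCore (hN := Subgroup.normalClosure_normal) hNp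
    (Subgroup.subset_normalClosure (Set.mem_singleton x))
  rwa [hO, Subgroup.mem_bot] at this

/-- **Vanishing lemma.** -/
theorem exists_vanishing_of_mem [Finite G] [Group.IsSolvable G] (hO : Cfsg.pCore p G = ⊥)
    (K B : Subgroup G) [K.Normal] [B.Normal] (hK : (Nat.card K).Coprime p)
    (hB : ∀ y ∈ B, ∃ k : ℕ, y ^ p ^ k ∈ K)
    (hcase : p ≠ 2 ∨ ∀ y ∈ B, ∀ z ∈ B, y * z * y⁻¹ * z⁻¹ ∈ K)
    {x g : G} (hxB : x ∈ B) (hx : ∃ k, orderOf x = p ^ k) (hx1 : x ≠ 1)
    (hg : x ∈ Subgroup.zpowers g) : ∃ χ : Cfsg.IrrCharacter G, χ.1 g = 0 := by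
  classical
  set N := Subgroup.normalClosure ({x} : Set G) with hNdef
  set L := N ⊓ K with hLdef
  haveI : L.Normal := Subgroup.normal_inf_normal _ _
  have hNB : N ≤ B := Subgroup.normalClosure_le_normal (Set.singleton_subset_iff.2 hxB)
  have hN : ∀ y ∈ N, ∃ k : ℕ, y ^ p ^ k ∈ K := fun y hy => hB y (hNB hy)
  set φ := dualConj L with hφ
  have hne : φ x ≠ 1 := fun h => hx1 (eq_one_of_dual_trivial hO K hK hx hN h)
  haveI := finite_dual L
  have hV : (Nat.card (Dual L)).Coprime p :=
    coprime_card_dual L (hK.coprime_dvd_left (Subgroup.card_dvd_of_le inf_le_right))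
  -- `L` acts trivially
  have hLker : ∀ l ∈ L, φ l = 1 := by
    intro l hl
    refine MulEquiv.ext fun lam => Dual.ext fun n => ?_
    rw [hφ, dualConj_apply, show MulAut.conjNormal l⁻¹ n = (⟨l, hl⟩ : ↥L)⁻¹ * n * ⟨l, hl⟩ from
      Subtype.ext (by simp), map_mul, map_mul, map_inv, mul_comm (lam.hom _)⁻¹, inv_mul_cancel_right]
    rfl
  have hP : IsPGroup p (N.map φ) := by
    rintro ⟨_, y, hy, rfl⟩
    obtain ⟨k, hk⟩ := hN y hy
    exact ⟨k, Subtype.ext (by push_cast; rw [← map_pow]; exact hLker _ ⟨N.pow_mem hy _, hk⟩)⟩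
  have hn : ∀ a ∈ φ.range, ∀ y ∈ N.map φ, a * y * a⁻¹ ∈ N.map φ := by
    rintro _ ⟨c, rfl⟩ _ ⟨y, hy, rfl⟩
    exact ⟨c * y * c⁻¹, Subgroup.normalClosure_normal.conj_mem y hy c, by simp⟩
  have hxN : x ∈ N := Subgroup.subset_normalClosure (Set.mem_singleton x)
  -- a character fixed by no conjugate of `x`
  obtain ⟨lam, hlam⟩ : ∃ lam : Dual L, ∀ t : G, φ (t⁻¹ * x * t) lam ≠ lam := by
    rcases hcase with hp2 | hab
    · by_contra! hcov
      obtain ⟨k, hk⟩ := hP ⟨φ x, Subgroup.mem_map_of_mem φ hxN⟩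
      have hk' : φ x ^ p ^ k = 1 := congrArg Subtype.val hk
      have hex : ∃ m, φ x ^ p ^ m = 1 := ⟨k, hk'⟩
      obtain ⟨m, hm⟩ : ∃ m, Nat.find hex = m + 1 := by
        refine Nat.exists_eq_succ_of_ne_zero fun h0 => hne ?_
        have := Nat.find_spec hex
        rwa [h0, pow_zero, pow_one] at this
      refine Nat.find_min hex (show m < Nat.find hex by omega) ?_
      refine RegularOrbit.eq_one_of_conj_fixed_covering (L := φ.range) hV hp2 hP
        (Subgroup.map_le_range _ _) hn (a := φ x ^ p ^ m)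
        (pow_mem (Subgroup.mem_map_of_mem φ hxN) _) ?_ ?_
      · rw [← pow_mul, ← pow_succ, ← hm]
        exact Nat.find_spec hex
      · intro v
        obtain ⟨t, ht⟩ := hcov v
        refine ⟨φ t⁻¹, ⟨t⁻¹, rfl⟩, ?_⟩
        have h2 := zpow_apply_eq_self ht ((p ^ m : ℕ) : ℤ)
        have he : φ t⁻¹ * φ x ^ p ^ m * (φ t⁻¹)⁻¹ = φ (t⁻¹ * x * t) ^ ((p ^ m : ℕ) : ℤ) := by
          rw [zpow_natCast, map_mul, map_mul, map_inv, ← conj_pow]
          simp
        rw [he]
        exact h2
    · have hAcomm : ∀ a ∈ N.map φ, ∀ b ∈ N.map φ, a * b = b * a := by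
        rintro _ ⟨y, hy, rfl⟩ _ ⟨z, hz, rfl⟩
        have h1 : y * z * y⁻¹ * z⁻¹ ∈ L :=
          ⟨N.mul_mem (N.mul_mem (N.mul_mem hy hz) (N.inv_mem hy)) (N.inv_mem hz),
            hab y (hNB hy) z (hNB hz)⟩
        have h2 := hLker _ h1
        rwa [map_mul, map_mul, map_mul, map_inv, map_inv, mul_inv_eq_one,
          mul_inv_eq_iff_eq_mul] at h2
      obtain ⟨j, hj⟩ := IsPGroup.iff_card.1 hP
      obtain ⟨v, hv⟩ := exists_regular_vector (N.map φ) hAcomm (hj ▸ hV.pow_right j)
      refine ⟨v, fun t ht => hne ?_⟩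
      have h1 := hv _ ⟨t⁻¹ * x * t, by
        simpa using Subgroup.normalClosure_normal.conj_mem x hxN t⁻¹, rfl⟩ ht
      have h2 : φ x = φ t * φ (t⁻¹ * x * t) * (φ t)⁻¹ := by
        rw [← map_inv, ← map_mul, ← map_mul]; congr 1; group
      rw [h2, h1, mul_one, mul_inv_cancel]
  refine exists_vanishing_of_forall_not_fixed L lam g fun t ht => hlam t ?_
  obtain ⟨i, rfl⟩ := hg
  have h := zpow_apply_eq_self ht i
  rw [← map_zpow] at h
  convert h using 3
  rw [show t⁻¹ * g * t = t⁻¹ * g * t⁻¹⁻¹ by rw [inv_inv], conj_zpow, inv_inv]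

end Cfsg.Agent.VanishingP
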