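import Cfsg.Agent.Lib.VanishingP.Lemma
import Cfsg.Agent.Lib.PCore.HallHigman
import Cfsg.Agent.Lib.Coprime.Generation
import Cfsg.Agent.Lib.PGroup.Basic
import Cfsg.Agent.Lib.PCore.UpperSeries

/-!
# One order of vanishing `p`-singular elements

`card_sylow_le`: if all zeros of irreducible characters of a solvable group `G` of order divisible
by `p` have one order, a Sylow `p`-subgroup has order at most `p |O_p(G)|`.
-/

set_option autoImplicit false
set_option linter.style.haveILetI false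

namespace Cfsg.Agent.VanishingP

open Subgroup

universe u

variable {G : Type u} [Group G] [Finite G] {p : ℕ} [hp : Fact p.Prime]

/-- `g` is a zero of some irreducible character. -/
def Vanishing (g : G) : Prop := ∃ χ : Cfsg.IrrCharacter G, χ.1 g = 0

/-- The consequences in `G/O_p(G)` of the one-order hypothesis. -/
structure Sparse (p : ℕ) (H : Type u) [Group H] : Prop where
  no_root : ∀ x s : H, Vanishing x → (∃ k, orderOf x = p ^ k) → x ≠ 1 → s ^ p = x →
    ¬ Vanishing s
  no_comm : ∀ x y : H, Vanishing x → (∃ k, orderOf x = p ^ k) → x ≠ 1 → Commute x y →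
    (orderOf y).Coprime p → Vanishing (x * y) → y = 1

theorem sparse_quotient (hone : ∀ a b : G, Vanishing a → Vanishing b → p ∣ orderOf a →
    p ∣ orderOf b → orderOf a = orderOf b) : Sparse p (G ⧸ Cfsg.pCore p G) := by
  set π := QuotientGroup.mk' (Cfsg.pCore p G) with hπ
  have hsurj : Function.Surjective π := QuotientGroup.mk'_surjective _
  have hlift : ∀ {a : G}, Vanishing (π a) → Vanishing a := fun {a} ⟨χ, hχ⟩ =>
    ⟨⟨_, Char.IsIrrCharacter.comp_surjective χ.2 π hsurj⟩, hχ⟩
  -- lifts of nontrivial `p`-elements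
  have hpel : ∀ a : G, (∃ k, orderOf (π a) = p ^ k) → π a ≠ 1 →
      p ∣ orderOf a ∧ ∃ k, orderOf a = p ^ k := by
    intro a ⟨k, hk⟩ hne
    obtain ⟨j, hj⟩ := PCore.isPGroup_pCore (p := p) (G := G) ⟨a ^ p ^ k, by
      rw [← QuotientGroup.eq_one_iff]
      change π (a ^ p ^ k) = 1
      rw [map_pow, ← hk, pow_orderOf_eq_one]⟩
    have hj' : a ^ p ^ (k + j) = 1 := by
      rw [pow_add, pow_mul]
      exact congrArg Subtype.val hj
    obtain ⟨i, -, hi⟩ := (Nat.dvd_prime_pow hp.out).1 (orderOf_dvd_of_pow_eq_one hj')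
    refine ⟨?_, i, hi⟩
    rw [hi]
    refine dvd_pow_self p fun h0 => hne ?_
    rw [h0, pow_zero, orderOf_eq_one_iff] at hi
    rw [hi, map_one]
  constructor
  · intro x s hx hxo hx1 hs hsv
    obtain ⟨a, rfl⟩ := hsurj s
    subst hs
    rw [← map_pow] at hx hxo hx1
    obtain ⟨hpd, k, hk⟩ := hpel _ hxo hx1
    have hda : p ∣ orderOf a := hpd.trans (orderOf_pow_dvd p)
    have h := hone a (a ^ p) (hlift hsv) (hlift hx) hda hpd
    rw [orderOf_pow_of_dvd hp.out.ne_zero hda] at h
    exact absurd h.symm (Nat.div_lt_self (orderOf_pos a) hp.out.one_lt).ne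
  · intro x y hx hxo hx1 hxy hy hxyv
    obtain ⟨a, rfl⟩ := hsurj x
    obtain ⟨c, hc⟩ := hsurj (π a * y)
    rw [← hc] at hxyv
    obtain ⟨hpd, k, hk⟩ := hpel _ hxo hx1
    obtain ⟨k', hk'⟩ := hxo
    have hord : orderOf (π a * y) = p ^ k' * orderOf y := by
      rw [hxy.orderOf_mul_eq_mul_orderOf_of_coprime (hk' ▸ hy.symm.pow_left k'), hk']
    have hdvd : p ^ k' * orderOf y ∣ orderOf c := hord ▸ hc ▸ orderOf_map_dvd π c
    have hk0 : k' ≠ 0 := fun h0 => hx1 (orderOf_eq_one_iff.1 (by rw [hk', h0, pow_zero]))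
    have h := hone c a (hlift hxyv) (hlift hx)
      (((dvd_pow_self p hk0).trans (Dvd.intro _ rfl)).trans hdvd) hpd
    rw [h, hk] at hdvd
    refine orderOf_eq_one_iff.1 (Nat.eq_one_of_dvd_coprimes (hy.pow_right k) dvd_rfl
      ((Dvd.intro_left _ rfl).trans hdvd))

section Quotient

variable {H : Type u} [Group H] [Finite H] [Group.IsSolvable H]

theorem card_sylow_le_prime (hO : Cfsg.pCore p H = ⊥) (hsp : Sparse p H) (S : Sylow p H) :
    Nat.card (S : Subgroup H) ≤ p := by
  classical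
  set K := Cfsg.pPrimeCore p H with hKdef
  set π := QuotientGroup.mk' K with hπ
  have hsurj : Function.Surjective π := QuotientGroup.mk'_surjective K
  set W := Cfsg.pCore p (H ⧸ K) with hWdef
  have hQO : Cfsg.pPrimeCore p (H ⧸ K) = ⊥ := PCore.pPrimeCore_quotient_self_eq_bot
  haveI : Group.IsSolvable (H ⧸ K) := Group.isSolvable_of_surjective hsurj
  have hWC : centralizer (W : Set (H ⧸ K)) ≤ W := PCore.centralizer_pCore_le_of_isSolvable hQO
  have hK : (Nat.card K).Coprime p := PCore.coprime_card_pPrimeCore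
  have hSK : (S : Subgroup H) ⊓ K = ⊥ := by
    obtain ⟨k, hk⟩ := IsPGroup.iff_card.1 S.2
    refine inf_eq_bot_of_coprime ?_
    rw [hk]
    exact hK.symm.pow_left k
  have hinj : ∀ a ∈ (S : Subgroup H), ∀ b ∈ (S : Subgroup H), π a = π b → a = b := by
    intro a ha b hb h
    rw [← inv_mul_eq_one, ← Subgroup.mem_bot, ← hSK]
    refine Subgroup.mem_inf.2 ⟨Subgroup.mul_mem _ (Subgroup.inv_mem _ ha) hb, (QuotientGroup.eq_one_iff _).1 ?_⟩
    change π (a⁻¹ * b) = 1
    rw [map_mul, map_inv, h, inv_mul_cancel]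
  have hSmap : IsPGroup p ((S : Subgroup H).map π) := S.2.map π
  have hWS : W ≤ (S : Subgroup H).map π := by
    have := PCore.pCore_le_sylow (p := p) (S.mapSurjective hsurj)
    simpa using this
  have hpe : ∀ a ∈ (S : Subgroup H), ∃ k, orderOf a = p ^ k := by
    intro a ha
    obtain ⟨k, hk⟩ := IsPGroup.iff_orderOf.1 S.2 ⟨a, ha⟩
    exact ⟨k, by rw [← hk, ← Subgroup.orderOf_coe]⟩
  -- the good parts of `W`
  let Good : Subgroup (H ⧸ K) → Prop := fun B =>
    B.Normal ∧ B ≤ W ∧ (p ≠ 2 ∨ ∀ y ∈ B, ∀ z ∈ B, y * z = z * y)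
  have hvan : ∀ {B}, Good B → ∀ {x g : H}, π x ∈ B → x ∈ (S : Subgroup H) → x ≠ 1 →
      x ∈ zpowers g → Vanishing g := by
    intro B ⟨hBn, hBW, hBc⟩ x g hxB hxS hx1 hxg
    haveI := hBn
    refine exists_vanishing_of_mem hO K (B.comap π) hK (fun y hy => ?_) ?_ hxB (hpe x hxS) hx1 hxg
    · obtain ⟨k, hk⟩ := PCore.isPGroup_pCore (p := p) ⟨π y, hBW hy⟩
      refine ⟨k, (QuotientGroup.eq_one_iff _).1 ?_⟩
      change π (y ^ p ^ k) = 1
      rw [map_pow]
      exact congrArg Subtype.val hk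
    · refine hBc.imp id fun h y hy z hz => (QuotientGroup.eq_one_iff _).1 ?_
      change π (y * z * y⁻¹ * z⁻¹) = 1
      rw [map_mul, map_mul, map_mul, map_inv, map_inv, h _ hy _ hz, mul_inv_cancel_right,
        mul_inv_cancel]
  have hexp : ∀ {B}, Good B → ∀ u ∈ B, u ^ p = 1 := by
    intro B hB u hu
    obtain ⟨x, hx, rfl⟩ := hWS (hB.2.1 hu)
    by_contra hne
    have hxp : x ^ p ≠ 1 := fun h => hne (by rw [← map_pow, h, map_one])
    have hx1 : x ≠ 1 := fun h => hxp (by rw [h, one_pow])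
    refine hsp.no_root (x ^ p) x ?_ (hpe _ (pow_mem hx p)) hxp rfl
      (hvan hB hu hx hx1 (mem_zpowers x))
    exact hvan hB (by rw [map_pow]; exact pow_mem hu p) (pow_mem hx p) hxp (mem_zpowers _)
  have hroot : ∀ {B}, Good B → ∀ y ∈ W, y ^ p ∈ B → y ^ p = 1 := by
    intro B hB y hy hyB
    obtain ⟨t, ht, rfl⟩ := hWS hy
    by_contra hne
    have htp : t ^ p ≠ 1 := fun h => hne (by rw [← map_pow, h, map_one])
    rw [← map_pow] at hyB
    exact hsp.no_root (t ^ p) t (hvan hB hyB (pow_mem ht p) htp (mem_zpowers _))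
      (hpe _ (pow_mem ht p)) htp rfl
      (hvan hB hyB (pow_mem ht p) htp (Subgroup.npow_mem_zpowers t p))
  have hpair : ∀ {B}, Good B → ∀ u ∈ B, ∀ v ∈ B, u * v = v * u → u ≠ 1 → v ∈ zpowers u := by
    intro B hB u hu v hv huv hu1
    obtain ⟨x, hx, rfl⟩ := hWS (hB.2.1 hu)
    obtain ⟨w, hw, rfl⟩ := hWS (hB.2.1 hv)
    have hxw : Commute x w :=
      hinj _ (mul_mem hx hw) _ (mul_mem hw hx) (by rw [map_mul, map_mul]; exact huv)
    set A := zpowers x ⊔ zpowers w with hA
    have hAS : A ≤ (S : Subgroup H) := sup_le (zpowers_le.2 hx) (zpowers_le.2 hw)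
    have hAB : A ≤ B.comap π := sup_le (zpowers_le.2 hu) (zpowers_le.2 hv)
    -- centralisers in `K` of nontrivial elements of `A` are trivial
    have hfpf : ∀ a ∈ A, a ≠ 1 → K ⊓ centralizer ({a} : Set H) = ⊥ := by
      intro a ha ha1
      refine (Subgroup.eq_bot_iff_forall _).2 fun y hy => ?_
      have hyc : (orderOf y).Coprime p :=
        hK.coprime_dvd_left (Subgroup.orderOf_dvd_natCard _ hy.1)
      have hay : Commute a y := mem_centralizer_iff.1 hy.2 a rfl
      have haB : π a ∈ B := hAB ha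
      refine hsp.no_comm a y (hvan hB haB (hAS ha) ha1 (mem_zpowers a)) (hpe a (hAS ha)) ha1 hay hyc
        (hvan hB haB (hAS ha) ha1 ?_)
      obtain ⟨i, hi⟩ := hpe a (hAS ha)
      obtain ⟨n, hn1, hn2⟩ := Nat.chineseRemainder (hyc.symm.pow_left i) 1 0
      refine ⟨(n : ℤ), ?_⟩
      show (a * y) ^ (n : ℤ) = a
      rw [zpow_natCast, hay.mul_pow, orderOf_dvd_iff_pow_eq_one.1 (Nat.modEq_zero_iff_dvd.1 hn2),
        mul_one]
      conv_rhs => rw [← pow_one a]
      rw [pow_eq_pow_iff_modEq, hi]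
      exact hn1
    have hAc : ∀ a ∈ A, ∀ b ∈ A, a * b = b * a := by
      have h1 : A ≤ centralizer (A : Set H) := by
        have hsx : ∀ z ∈ ({x, w} : Set H), ∀ z' ∈ ({x, w} : Set H), z * z' = z' * z := by
          rintro z (rfl | rfl) z' (rfl | rfl) <;> first | rfl | exact hxw.eq | exact hxw.eq.symm
        rw [hA, zpowers_eq_closure, zpowers_eq_closure, ← Subgroup.closure_union,
          Set.singleton_union, Subgroup.centralizer_closure, Subgroup.closure_le]
        intro z hz
        exact mem_centralizer_iff.2 fun z' hz' => hsx z' hz' z hz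
      exact fun a ha b hb => mem_centralizer_iff.1 (h1 hb) a ha
    haveI : IsMulCommutative A := ⟨⟨fun a b => Subtype.ext (hAc a a.2 b b.2)⟩⟩
    by_contra hnv
    have hKA : K ≤ ⊥ := by
      refine Coprime.le_of_forall_cyclic_quotient (A := A) (K := K) (S := ⊥)
        (by rw [Subgroup.normalizer_eq_top]; exact le_top) ?_ fun D hDA ⟨a, ha, hDa⟩ => ?_
      · obtain ⟨j, hj⟩ := IsPGroup.iff_card.1 (S.2.to_le hAS)
        rw [hj]
        exact hK.symm.pow_left j
      rcases eq_or_ne D ⊥ with rfl | hD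
      · exfalso
        apply hnv
        rw [bot_sup_eq] at hDa
        -- two elements of a cyclic group of exponent `p`
        have hxa : x ∈ zpowers a := hDa ▸ Subgroup.mem_sup_left (mem_zpowers x)
        have hwa : w ∈ zpowers a := hDa ▸ Subgroup.mem_sup_right (mem_zpowers w)
        have hx1 : x ≠ 1 := fun h => hu1 (by rw [h, map_one])
        have ha1 : a ≠ 1 := fun h => hx1 (by
          rw [h, zpowers_one_eq_bot, Subgroup.mem_bot] at hxa; exact hxa)
        have hap : a ^ p = 1 := hinj _ (pow_mem (hAS ha) p) _ (one_mem _)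
          (by rw [map_pow, map_one]; exact hexp hB _ (hAB ha))
        have hxp : x ^ p = 1 := hinj _ (pow_mem hx p) _ (one_mem _)
          (by rw [map_pow, map_one]; exact hexp hB _ hu)
        have heq : zpowers x = zpowers a := eq_of_le_of_card_ge (zpowers_le.2 hxa) (by
          rw [Nat.card_zpowers, Nat.card_zpowers, orderOf_eq_prime hxp hx1,
            orderOf_eq_prime hap ha1])
        rw [← MonoidHom.map_zpowers]
        exact mem_map_of_mem π (heq ▸ hwa)
      · obtain ⟨d, hd, hd1⟩ := (Subgroup.bot_or_exists_ne_one D).resolve_left hD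
        exact (inf_le_inf_left K (centralizer_le (Set.singleton_subset_iff.2 hd))).trans
          (hfpf d (hDA hd) hd1).le
    -- then `O_{p'}(H) = 1`, so `H` has order prime to `p`
    have hKb : K = ⊥ := le_bot_iff.1 hKA
    rcases subsingleton_or_nontrivial H with h | h
    · exact hu1 (by rw [Subsingleton.elim x 1, map_one])
    · have h3 := PCore.centralizer_pCore_le_of_isSolvable (p := p) (G := H) hKb
      rw [hO, coe_bot] at h3
      obtain ⟨z, hz⟩ := exists_ne (1 : H)
      exact hz (Subgroup.mem_bot.1 (h3 (mem_centralizer_iff.2 fun c hc => by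
        rw [Set.mem_singleton_iff.1 hc, one_mul, mul_one])))
  -- the centre of `W`
  set Z := W ⊓ centralizer (W : Set (H ⧸ K)) with hZdef
  haveI hWn : W.Normal := PCore.pCore_normal
  haveI hCn : (centralizer (W : Set (H ⧸ K))).Normal := normal_centralizer
  haveI hZn : Z.Normal := Subgroup.normal_inf_normal _ _
  have hZ : Good Z := ⟨hZn, inf_le_left, Or.inr fun y hy z hz => mem_centralizer_iff.1 hz.2 y hy.1⟩
  have hWp : IsPGroup p W := PCore.isPGroup_pCore
  -- `W` is cyclic of order dividing `p`, generated by a central element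
  have hWle : W = ⊥ ∨ ∃ u, u ≠ 1 ∧ u ^ p = 1 ∧ W = zpowers u := by
    rcases eq_or_ne W ⊥ with hW | hW
    · exact Or.inl hW
    haveI : Nontrivial W := (Subgroup.nontrivial_iff_ne_bot W).2 hW
    haveI := hWp.center_nontrivial
    obtain ⟨⟨⟨u, huW⟩, huc⟩, hu⟩ := exists_ne (1 : ↥(center W))
    have hu1 : u ≠ 1 := fun h => hu (Subtype.ext (Subtype.ext h))
    have huZ : u ∈ Z := ⟨huW, mem_centralizer_iff.2 fun z hz =>
      congrArg Subtype.val (Subgroup.mem_center_iff.1 huc ⟨z, hz⟩)⟩
    refine Or.inr ⟨u, hu1, hexp hZ u huZ, le_antisymm ?_ (zpowers_le.2 huW)⟩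
    have hZu : Z ≤ zpowers u := fun z hz => hpair hZ u huZ z hz
      (mem_centralizer_iff.1 hz.2 u huW) hu1
    intro y hy
    by_cases hp2 : p = 2
    swap
    · exact hpair ⟨hWn, le_rfl, Or.inl hp2⟩ u huW y hy
        (mem_centralizer_iff.1 huZ.2 y hy).symm hu1
    -- `p = 2`: the second centre
    subst hp2
    by_contra hyu
    set q := QuotientGroup.mk' Z with hq
    set B := W ⊓ (centralizer (W.map q : Set ((H ⧸ K) ⧸ Z))).comap q with hB
    haveI : (W.map q).Normal := hWn.map q (QuotientGroup.mk'_surjective _)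
    haveI : (centralizer (W.map q : Set ((H ⧸ K) ⧸ Z))).Normal := normal_centralizer
    haveI : B.Normal := Subgroup.normal_inf_normal _ _
    have hmemB : ∀ b ∈ B, ∀ t ∈ W, b * t * b⁻¹ * t⁻¹ ∈ Z := by
      intro b hb t ht
      rw [← QuotientGroup.eq_one_iff]
      change q (b * t * b⁻¹ * t⁻¹) = 1
      rw [map_mul, map_mul, map_mul, map_inv, map_inv,
        ← mem_centralizer_iff.1 hb.2 (q t) (mem_map_of_mem q ht), mul_inv_cancel_right,
        mul_inv_cancel]
    have hsq : ∀ b ∈ B, b ^ 2 = 1 := by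
      intro b hb
      have hb2 : b ^ 2 ∈ Z := by
        refine ⟨pow_mem hb.1 2, mem_centralizer_iff.2 fun t ht => ?_⟩
        set c := b * t * b⁻¹ * t⁻¹ with hc
        have hcZ : c ∈ Z := hmemB b hb t ht
        have h1 : c ^ 2 = 1 := hexp hZ c hcZ
        have h2 : b * t * b⁻¹ = c * t := by rw [hc]; group
        have h3 : b * c = c * b := mem_centralizer_iff.1 hcZ.2 b hb.1
        have h4 : b ^ 2 * t * (b ^ 2)⁻¹ = t := by
          calc b ^ 2 * t * (b ^ 2)⁻¹ = b * (b * t * b⁻¹) * b⁻¹ := by rw [pow_two]; group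
            _ = b * (c * t) * b⁻¹ := by rw [h2]
            _ = (b * c) * b⁻¹ * (b * t * b⁻¹) := by group
            _ = c * (c * t) := by rw [h3, h2, mul_inv_cancel_right]
            _ = t := by rw [← mul_assoc, ← pow_two, h1, one_mul]
        exact (mul_inv_eq_iff_eq_mul.1 h4).symm
      exact hroot hZ b hb.1 hb2
    have hBc : ∀ a ∈ B, ∀ b ∈ B, a * b = b * a := by
      intro a ha b hb
      have h1 := inv_eq_of_mul_eq_one_right (a := a * b) (b := a * b)
        (by rw [← pow_two]; exact hsq _ (mul_mem ha hb))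
      have ha' : a⁻¹ = a := inv_eq_of_mul_eq_one_right (by rw [← pow_two]; exact hsq a ha)
      have hb' : b⁻¹ = b := inv_eq_of_mul_eq_one_right (by rw [← pow_two]; exact hsq b hb)
      rw [mul_inv_rev, ha', hb'] at h1
      exact h1.symm
    have hBgood : Good B := ⟨inferInstance, inf_le_left, Or.inr hBc⟩
    have huB : u ∈ B := by
      refine ⟨huW, ?_⟩
      show q u ∈ centralizer _
      rw [show q u = 1 from (QuotientGroup.eq_one_iff u).2 huZ]
      exact one_mem _
    have hne : Nontrivial ↥(W.map q) := by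
      refine (Subgroup.nontrivial_iff_ne_bot _).2 fun h => hyu (hZu ?_)
      exact (QuotientGroup.eq_one_iff y).1 (Subgroup.mem_bot.1 (h ▸ mem_map_of_mem q hy))
    haveI := (hWp.map q).center_nontrivial
    obtain ⟨⟨⟨_, b, hbW, rfl⟩, hbc⟩, hb1⟩ := exists_ne (1 : ↥(center ↥(W.map q)))
    have hbB : b ∈ B := ⟨hbW, mem_centralizer_iff.2 fun z hz =>
      congrArg Subtype.val (Subgroup.mem_center_iff.1 hbc ⟨z, hz⟩)⟩
    obtain ⟨i, hi⟩ := hpair hBgood u huB b hbB (hBc u huB b hbB) hu1
    exact hb1 (Subtype.ext (Subtype.ext ((QuotientGroup.eq_one_iff b).2 (hi ▸ zpow_mem huZ i))))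
  -- conclusion
  have hcard : Nat.card (S : Subgroup H) = Nat.card ((S : Subgroup H).map π) :=
    Nat.card_congr (Equiv.ofBijective (fun a => ⟨π a, mem_map_of_mem π a.2⟩)
      ⟨fun a b h => Subtype.ext (hinj a a.2 b b.2 (congrArg Subtype.val h)),
        fun ⟨_, a, ha, he⟩ => ⟨⟨a, ha⟩, Subtype.ext he⟩⟩)
  rw [hcard]
  rcases hWle with hW | ⟨u, hu1, hup, hW⟩
  · refine le_trans (le_of_eq ?_) hp.out.one_le
    rw [Subgroup.card_eq_one]
    refine le_bot_iff.1 ?_
    intro y _
    rw [← hW]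
    exact hWC (mem_centralizer_iff.2 fun z hz => by
      rw [hW] at hz; rw [Subgroup.mem_bot.1 hz, one_mul, mul_one])
  · have hWcard : Nat.card W = p := by rw [hW, Nat.card_zpowers, orderOf_eq_prime hup hu1]
    refine le_trans (Subgroup.card_le_of_le ((le_centralizer_iff.1 ?_).trans hWC)) hWcard.le
    -- a normal subgroup of order `p` of a `p`-group is central
    set T := (S : Subgroup H).map π with hT
    haveI : (W.subgroupOf T).Normal := Subgroup.Normal.subgroupOf hWn T
    have hWne : W.subgroupOf T ≠ ⊥ := fun h => hu1 (by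
      have h1 : (⟨u, hWS (hW.ge (mem_zpowers u))⟩ : T) ∈ W.subgroupOf T :=
        Subgroup.mem_subgroupOf.2 (hW.ge (mem_zpowers u))
      rw [h, Subgroup.mem_bot] at h1
      exact congrArg Subtype.val h1)
    obtain ⟨z, hz, hz1⟩ :=
      (Subgroup.bot_or_exists_ne_one _).resolve_left (PGroup.inf_center_ne_bot hSmap _ hWne)
    intro y hy
    have hzW : zpowers (z : H ⧸ K) = W := by
      refine eq_of_le_of_card_ge (zpowers_le.2 (Subgroup.mem_subgroupOf.1 hz.1)) ?_
      rw [hWcard, Nat.card_zpowers]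
      obtain ⟨k, hk⟩ := IsPGroup.iff_orderOf.1 hWp ⟨_, Subgroup.mem_subgroupOf.1 hz.1⟩
      rw [← Subgroup.orderOf_coe] at hk
      rw [hk]
      refine le_of_eq_of_le (pow_one p).symm (Nat.pow_le_pow_right hp.out.pos
        (Nat.one_le_iff_ne_zero.2 fun h0 => hz1 ?_))
      rw [h0, pow_zero, orderOf_eq_one_iff] at hk
      exact Subtype.ext hk
    rw [← hzW] at hy
    obtain ⟨i, rfl⟩ := hy
    refine mem_centralizer_iff.2 fun t ht => ?_
    exact (show Commute t (z : H ⧸ K) from
      congrArg Subtype.val (Subgroup.mem_center_iff.1 hz.2 ⟨t, ht⟩)).zpow_right i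

end Quotient

/-- **Main theorem.** -/
theorem card_sylow_le [Group.IsSolvable G] (hone : ∀ a b : G, Vanishing a → Vanishing b →
    p ∣ orderOf a → p ∣ orderOf b → orderOf a = orderOf b) (P : Sylow p G) :
    Nat.card (P : Subgroup G) ≤ p * Nat.card (Cfsg.pCore p G) ∧
      Nat.card ((P : Subgroup G).map (QuotientGroup.mk' (Cfsg.pCore p G))) ≤ p := by
  have hsurj := QuotientGroup.mk'_surjective (Cfsg.pCore p G)
  haveI : Group.IsSolvable (G ⧸ Cfsg.pCore p G) := Group.isSolvable_of_surjective hsurj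
  have h := card_sylow_le_prime (PCore.pCore_quotient_self_eq_bot) (sparse_quotient hone)
    (P.mapSurjective hsurj)
  rw [Sylow.coe_mapSurjective] at h
  refine ⟨?_, h⟩
  rw [← PCore.relIndex_eq_card_map_mk'] at h
  have h2 : Nat.card (Cfsg.pCore p G) * (Cfsg.pCore p G).relIndex P = Nat.card (P : Subgroup G) := by
    rw [← relIndex_bot_left, ← relIndex_bot_left, relIndex_mul_relIndex _ _ _ bot_le (PCore.pCore_le_sylow P)]
  rw [← h2, mul_comm p]
  exact Nat.mul_le_mul_left _ h

end Cfsg.Agent.VanishingP
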